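import Groth.Prelude.Def_KoszTw
import Groth.Prelude.Def_SecTwist
import Groth.Agent.Lib.Ample.Immersion
import Groth.Agent.Lib.Ample.CocTensor
import Groth.Agent.Lib.Ample.Criterion
import Groth.Agent.Lib.AffLocus9.Basic
import Groth.Agent.Lib.ProjCoh.Generic
import Groth.Agent.Lib.SerreVanish.Main
import Groth.Agent.Lib.Euler.Coh
import Groth.Agent.Lib.ProjCoh.Finite

/-!
# Normally generated ample modules are very ample
-/

set_option autoImplicit false
set_option linter.all false
set_option backward.isDefEq.respectTransparency false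

universe u

open CategoryTheory CategoryTheory.Limits AlgebraicGeometry TopologicalSpace Opposite
open GrothLib.Ample
open GrothLib.InvExt (mres IsGen)

noncomputable section

namespace GrothLib.NormGen9

variable {X : Scheme.{u}} (c : Cocycle X)

/-- Multiplication on the tensor product of twists. -/
def mulHom (n m : ℕ) : CohB1.tensorMod (c.twist n) (c.twist m) ⟶ c.twist (n + m) :=
  (PresheafOfModules.sheafificationHomEquiv.{u} (𝟙 X.ringCatSheaf.obj)
    (P := show X.PresheafOfModules from CohB1.tensorPre (c.twist n) (c.twist m))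
    (F := c.twist (n + m))).symm (c.mulPre n m)

theorem mulHom_tmul (n m : ℕ) (U : X.Opens) (a : c.sect n U) (b : c.sect m U) :
    (mulHom c n m).app U (SecTwist.tmul (c.twist n) (c.twist m) U a b) = c.mul a b :=
  congrArg (fun F => (F.app (op U)).hom (a ⊗ₜ[Γ(X, U)] b))
    ((PresheafOfModules.sheafificationHomEquiv.{u} (𝟙 X.ringCatSheaf.obj)
      (P := show X.PresheafOfModules from CohB1.tensorPre (c.twist n) (c.twist m))
      (F := c.twist (n + m))).apply_symm_apply (c.mulPre n m))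

theorem isIso_mulHom (n m : ℕ) : IsIso (mulHom c n m) := by
  have hb : ∀ p : X, ∃ V : X.Opens, p ∈ V ∧ ∀ W ≤ V, Function.Bijective ((c.mulPre n m).app (op W)).hom := by
    refine fun p => bijective_pre (c.mulPre n m) (fun p => ?_) p
    obtain ⟨i, hi⟩ := c.exists_mem p
    refine ⟨c.D i, c.base n i le_rfl, c.base m i le_rfl, hi, c.isGen_base n i le_rfl, c.isGen_base m i le_rfl, ?_⟩
    have e : pre (c.mulPre n m) (c.D i) (c.base n i le_rfl) (c.base m i le_rfl) = c.base (n + m) i le_rfl :=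
      c.sect_ext fun l => (pow_add _ _ _).symm
    exact Eq.subst (motive := fun t => IsGen (c.twist (n + m)) (c.D i) t) e.symm (c.isGen_base (n + m) i le_rfl)
  let g : (show X.PresheafOfModules from CohB1.tensorPre (c.twist n) (c.twist m)) ⟶
      (PresheafOfModules.restrictScalars (𝟙 X.ringCatSheaf.obj)).obj (c.twist (n + m)).val := c.mulPre n m
  haveI : Presheaf.IsLocallyInjective (Opens.grothendieckTopology X)
      ((PresheafOfModules.toPresheaf _).map g) :=
    ⟨fun {U} z w e p hp => by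
      obtain ⟨V, hpV, hV⟩ := hb p
      refine ⟨U.unop ⊓ V, homOfLE inf_le_left, ?_, hp, hpV⟩
      refine (hV _ inf_le_right).1 ?_
      have h1 := PresheafOfModules.naturality_apply g (homOfLE (inf_le_left : U.unop ⊓ V ≤ U.unop)).op z
      have h2 := PresheafOfModules.naturality_apply g (homOfLE (inf_le_left : U.unop ⊓ V ≤ U.unop)).op w
      exact h1.trans ((congrArg _ e).trans h2.symm)⟩
  haveI : Presheaf.IsLocallySurjective (Opens.grothendieckTopology X)
      ((PresheafOfModules.toPresheaf _).map g) :=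
    ⟨fun {U} t p hp => by
      obtain ⟨V, hpV, hV⟩ := hb p
      obtain ⟨z, hz⟩ := (hV (U ⊓ V) inf_le_right).2 (mres (c.twist (n + m)) (inf_le_left : U ⊓ V ≤ U) t)
      exact ⟨U ⊓ V, homOfLE inf_le_left, ⟨z, hz⟩, hp, hpV⟩⟩
  exact isIso_sheafify_desc _ _ g

variable {L : X.Modules}

/-- Every section of the next power is a sum of products. -/
theorem sect_generated (e : L ≅ c.twist 1) (n : ℕ)
    (hng : 1 ≤ n → AddSubgroup.closure {t | ∃ (m : (CohB1.tensorPow L n).val.obj (op ⊤))
      (s : L.val.obj (op ⊤)), t = SecTwist.tmul (CohB1.tensorPow L n) L ⊤ m s} = ⊤)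
    (t : c.sect (n + 1) ⊤) :
    t ∈ AddSubgroup.closure {t | ∃ (a : c.sect n ⊤) (b : c.sect 1 ⊤), t = c.mul a b} := by
  rcases Nat.eq_zero_or_pos n with rfl | hn
  · refine AddSubgroup.subset_closure ⟨c.one, c.sectCast (zero_add 1) t, c.sect_ext fun i => ?_⟩
    rw [Cocycle.mul_apply]
    show _ = 1 * _
    rw [one_mul]
    rfl
  obtain ⟨θ⟩ := c.nonempty_tensorPow_iso e n
  let T : CohB1.tensorMod (CohB1.tensorPow L n) L ⟶ c.twist (n + 1) :=
    KoszTw.tensorMap θ.hom e.hom ≫ mulHom c n 1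
  haveI := isIso_mulHom c n 1
  haveI : IsIso (KoszTw.tensorMap θ.hom e.hom) :=
    ⟨⟨KoszTw.tensorMap θ.inv e.inv,
      by rw [← KoszTw.tensorMap_comp, θ.hom_inv_id, e.hom_inv_id, KoszTw.tensorMap_id],
      by rw [← KoszTw.tensorMap_comp, θ.inv_hom_id, e.inv_hom_id, KoszTw.tensorMap_id]⟩⟩
  haveI : IsIso T := IsIso.comp_isIso
  obtain ⟨z, hz⟩ : ∃ z, T.app ⊤ z = t := (ConcreteCategory.bijective_of_isIso (T.app ⊤)).2 t
  have hzc : z ∈ AddSubgroup.closure {t | ∃ (m : (CohB1.tensorPow L n).val.obj (op ⊤))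
      (s : L.val.obj (op ⊤)), t = SecTwist.tmul (CohB1.tensorPow L n) L ⊤ m s} := by
    rw [hng hn]; trivial
  rw [← hz]
  clear hz t
  induction hzc using AddSubgroup.closure_induction with
  | mem x hx =>
    obtain ⟨m, s, rfl⟩ := hx
    refine AddSubgroup.subset_closure ⟨θ.hom.app ⊤ m, e.hom.app ⊤ s, ?_⟩
    show (mulHom c n 1).app ⊤ ((KoszTw.tensorMap θ.hom e.hom).app ⊤ _) = _
    rw [KoszTw.tensorMap_tmul θ.hom e.hom ⊤ m s]
    exact mulHom_tmul c n 1 ⊤ _ _
  | zero =>
    have h0 : T.app ⊤ 0 = (0 : c.sect (n + 1) ⊤) := map_zero _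
    rw [h0]; exact zero_mem _
  | add x y _ _ hx hy =>
    have h0 : T.app ⊤ (x + y) = (T.app ⊤ x + T.app ⊤ y : c.sect (n + 1) ⊤) := map_add _ x y
    rw [h0]; exact add_mem hx hy
  | neg x _ hx =>
    have h0 : T.app ⊤ (-x) = (-(T.app ⊤ x) : c.sect (n + 1) ⊤) := map_neg _ x
    rw [h0]; exact neg_mem hx

variable {R : Type u} [CommRing R] [IsNoetherianRing R]

/-- Cocycles whose section ring is generated in degree one are very ample. -/
theorem isRelVeryAmplePn_of_gen (f : X ⟶ Spec (CommRingCat.of R)) [IsProper f]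
    (c : Cocycle X) (e : L ≅ c.twist 1) (hc : c.IsAmp)
    (hgen : ∀ (n : ℕ) (t : c.sect (n + 1) ⊤),
      t ∈ AddSubgroup.closure {t | ∃ (a : c.sect n ⊤) (b : c.sect 1 ⊤), t = c.mul a b}) :
    RelAmple.IsRelVeryAmplePn f L := by
  classical
  letI : X.Over (Spec (CommRingCat.of R)) := ⟨f⟩
  haveI : IsProper (X ↘ Spec (CommRingCat.of R)) := ‹IsProper f›
  haveI := SerreVanish.isNoetherian_of_proper (X := X) R
  haveI : Module.Finite R (Coh.HH X (c.twist 1) 0) :=
    ProjCoh.moduleFinite_HH R _ (Euler.isCoh_of_isInvertible (c.isInvertible_twist 1)) 0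
  obtain ⟨N, g, hg⟩ := Module.Finite.exists_fin (R := R) (M := Coh.HH X (c.twist 1) 0)
  let a : Fin (N + 1) → c.sect 1 ⊤ := Fin.cons 0 fun k => ProjCoh.H0top (c.twist 1) (g k)
  have ha : ∀ s : c.sect 1 ⊤, ∃ r : Fin (N + 1) → R,
      s = ∑ k, (show Γ(X, ⊤) from Coh.toGlobal f (r k)) • a k := by
    intro s
    obtain ⟨r, hr⟩ := (Submodule.mem_span_range_iff_exists_fun R).1
      (show (ProjCoh.H0top (c.twist 1)).symm s ∈ Submodule.span R (Set.range g) by rw [hg]; trivial)
    refine ⟨Fin.cons 0 r, ?_⟩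
    rw [Fin.sum_univ_succ]
    simp only [a, Fin.cons_zero, Fin.cons_succ, smul_zero, zero_add]
    have h2 := congrArg (ProjCoh.H0top (c.twist 1)) hr
    rw [AddEquiv.apply_symm_apply, map_sum] at h2
    rw [← h2]
    refine Finset.sum_congr rfl fun k _ => ?_
    exact ProjCoh.H0top_smul (c.twist 1) (r k) (g k)
  have hcov : ∀ x : X, ∃ j : Fin (N + 1), x ∈ c.locus (a j) := by
    intro x
    by_contra! hno
    obtain ⟨i, hi⟩ := c.exists_mem x
    have hxi : x ∈ (⊤ : X.Opens) ⊓ c.D i := ⟨trivial, hi⟩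
    let γ := (X.presheaf.germ _ x hxi).hom
    have h1 : ∀ s : c.sect 1 ⊤, γ (s.1 i) ∈ IsLocalRing.maximalIdeal (X.presheaf.stalk x) := by
      intro s
      obtain ⟨r, rfl⟩ := ha s
      rw [AddSubgroup.val_finsetSum, Finset.sum_apply, map_sum]
      refine Ideal.sum_mem _ fun k _ => ?_
      rw [Cocycle.smul_apply, map_mul]
      refine Ideal.mul_mem_left _ _ ((IsLocalRing.mem_maximalIdeal _).2 fun hu => hno k ?_)
      exact (c.mem_locus_iff _ hi).2 ((Scheme.mem_basicOpen X _ x hxi).2 hu)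
    obtain ⟨n, t, hxt, -⟩ := hc x
    have h2 : ∀ t ∈ AddSubgroup.closure {t | ∃ (a : c.sect n ⊤) (b : c.sect 1 ⊤), t = c.mul a b},
        γ (t.1 i) ∈ IsLocalRing.maximalIdeal (X.presheaf.stalk x) := by
      intro t ht
      induction ht using AddSubgroup.closure_induction with
      | mem y hy =>
        obtain ⟨p, q, rfl⟩ := hy
        rw [Cocycle.mul_apply, map_mul]
        exact Ideal.mul_mem_left _ _ (h1 q)
      | zero => rw [show (0 : c.sect (n + 1) ⊤).1 i = 0 from rfl, map_zero]; exact Ideal.zero_mem _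
      | add y z _ _ hy hz =>
        rw [show (y + z : c.sect (n + 1) ⊤).1 i = y.1 i + z.1 i from rfl, map_add]
        exact Ideal.add_mem _ hy hz
      | neg y _ hy =>
        rw [show (-y : c.sect (n + 1) ⊤).1 i = -(y.1 i) from rfl, map_neg]
        exact neg_mem hy
    exact (IsLocalRing.mem_maximalIdeal _).1 (h2 t (hgen n t))
      ((Scheme.mem_basicOpen X _ x hxi).1 ((c.mem_locus_iff t hi).1 hxt))
  refine isRelVeryAmplePn_of_sections f c e a Set.univ (fun x => (hcov x).imp fun j hj => ⟨trivial, hj⟩)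
    (fun j _ => AffLocus9.isAffineOpen_locus c f hc (a j)) fun j _ b => ?_
  let W := c.locus (a j)
  let aj := c.sectRes (le_top : W ≤ ⊤) (a j)
  set S := Subring.closure (Set.range (f.appLE ⊤ W le_top).hom ∪
    {g | ∃ k, g • c.sectRes (le_top : W ≤ ⊤) (a j) = c.sectRes le_top (a k)})
  have hR : ∀ r : R, res (le_top : W ≤ ⊤) (show Γ(X, ⊤) from Coh.toGlobal f r) ∈ S := fun r =>
    Subring.subset_closure (Or.inl ⟨(Scheme.ΓSpecIso (CommRingCat.of R)).inv r, by
      show (f.appLE ⊤ W le_top).hom _ = (X.presheaf.map _).hom ((f.appTop).hom _)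
      rw [Scheme.Hom.appLE]
      rfl⟩)
  have h1 : ∀ s : c.sect 1 ⊤, ∃ φ ∈ S, c.sectRes (le_top : W ≤ ⊤) s = φ • aj := by
    intro s
    obtain ⟨r, rfl⟩ := ha s
    choose q hq using fun k => c.exists_ratio (a j) (a k)
    refine ⟨∑ k, res (le_top : W ≤ ⊤) (show Γ(X, ⊤) from Coh.toGlobal f (r k)) * q k,
      sum_mem fun k _ => mul_mem (hR _) (Subring.subset_closure (Or.inr ⟨k, (hq k).1.symm⟩)), ?_⟩
    refine c.sect_ext fun i => ?_
    rw [Finset.sum_smul]
    simp only [Cocycle.sectRes_apply, AddSubgroup.val_finsetSum, Finset.sum_apply, map_sum, aj,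
      Cocycle.smul_apply, map_mul, res_res]
    refine Finset.sum_congr rfl fun k _ => ?_
    have hk := congrArg (fun z : c.sect 1 W => z.1 i) (hq k).1
    simp only [Cocycle.smul_apply, Cocycle.sectRes_apply] at hk
    rw [hk, mul_assoc]
  have hn : ∀ (n : ℕ) (t : c.sect n ⊤), ∃ φ ∈ S, ∀ i,
      res (inf_le_inf_right _ le_top) (t.1 i) = res (inf_le_left : W ⊓ c.D i ≤ W) φ * (aj.1 i) ^ n := by
    intro n
    induction n with
    | zero =>
      intro t
      obtain ⟨φ, hφS, hφ⟩ := h1 (c.sectCast (zero_add 1) (c.mul t (a j)))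
      refine ⟨φ, hφS, fun i => ?_⟩
      rw [pow_zero, mul_one]
      -- both sides agree after multiplication by the generator `aj`
      have hi := congrArg (fun z : c.sect 1 W => z.1 i) hφ
      simp only [Cocycle.smul_apply, Cocycle.sectRes_apply, Cocycle.sectCast_apply, Cocycle.mul_apply,
        map_mul] at hi
      have hu : IsUnit (aj.1 i) := by
        have hle : W ⊓ c.D i ≤ X.basicOpen ((a j).1 i) := by
          rw [← c.locus_inf_D (a j) i]
        show IsUnit (res _ ((a j).1 i))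
        rw [← res_res (X.basicOpen_le _) hle]
        exact (RingedSpace.isUnit_res_basicOpen X.toRingedSpace ((a j).1 i)).map (res hle)
      exact hu.mul_right_cancel hi
    | succ n ih =>
      intro t
      induction hgen n t using AddSubgroup.closure_induction with
      | mem y hy =>
        obtain ⟨p, q, rfl⟩ := hy
        obtain ⟨φ, hφS, hφ⟩ := ih p
        obtain ⟨ψ, hψS, hψ⟩ := h1 q
        refine ⟨φ * ψ, mul_mem hφS hψS, fun i => ?_⟩
        have hi := congrArg (fun z : c.sect 1 W => z.1 i) hψ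
        simp only [Cocycle.smul_apply, Cocycle.sectRes_apply] at hi
        rw [Cocycle.mul_apply, map_mul, hφ i, hi, map_mul, pow_succ]
        ring
      | zero => exact ⟨0, zero_mem _, fun i => by rw [show (0 : c.sect (n + 1) ⊤).1 i = 0 from rfl, map_zero, map_zero, zero_mul]⟩
      | add y z _ _ hy hz =>
        obtain ⟨φ, hφS, hφ⟩ := hy
        obtain ⟨ψ, hψS, hψ⟩ := hz
        exact ⟨φ + ψ, add_mem hφS hψS, fun i => by
          rw [show (y + z : c.sect (n + 1) ⊤).1 i = y.1 i + z.1 i from rfl, map_add, hφ i, hψ i, map_add, add_mul]⟩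
      | neg y _ hy =>
        obtain ⟨φ, hφS, hφ⟩ := hy
        exact ⟨-φ, neg_mem hφS, fun i => by
          rw [show (-y : c.sect (n + 1) ⊤).1 i = -(y.1 i) from rfl, map_neg, hφ i, map_neg, neg_mul]⟩
  haveI := c.quasiSeparatedSpace_of_isAmp hc
  obtain ⟨m, b', hb'⟩ := c.exists_extend (a j) b
  obtain ⟨φ, hφS, hφ⟩ := hn (1 * m) b'
  have hbφ : b = φ := by
    refine c.smul_injective_of_le_locus (c.sectPow (a j) m) (c.le_locus_sectPow (a j) m) ?_
    show b • c.sectRes (le_top : W ≤ ⊤) (c.sectPow (a j) m) = φ • c.sectRes le_top (c.sectPow (a j) m)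
    refine hb'.symm.trans (c.sect_ext fun i => ?_)
    have e1 := hφ i
    simp only [Cocycle.sectRes_apply, Cocycle.smul_apply, Cocycle.sectPow_apply, map_pow, one_mul, aj] at e1 ⊢
    exact e1
  rw [hbφ]
  exact hφS

/-- Normally generated ample modules on schemes proper over a Noetherian ring are very ample. -/
theorem isRelVeryAmplePn (f : X ⟶ Spec (CommRingCat.of R)) [IsProper f]
    (hL : PicF.IsInvertible L) (hLa : CohB1.IsAmple L)
    (hng : ∀ n : ℕ, 1 ≤ n → AddSubgroup.closure {t | ∃ (m : (CohB1.tensorPow L n).val.obj (op ⊤))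
      (s : L.val.obj (op ⊤)), t = SecTwist.tmul (CohB1.tensorPow L n) L ⊤ m s} = ⊤) :
    RelAmple.IsRelVeryAmplePn f L := by
  obtain ⟨c, ⟨e⟩⟩ := Ample.exists_cocycle hL
  exact isRelVeryAmplePn_of_gen f c e ((c.isAmple_iff e).1 hLa).2 fun n t => sect_generated c e n (hng n) t

end GrothLib.NormGen9
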