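import Groth.Agent.Lib.CurveMult.Basic
import Groth.Agent.Lib.CMMor6.Open
import Groth.Agent.Lib.Ample.Twisting

/-!
# Powers of an invertible module with a regular section on a curve
-/

set_option autoImplicit false
set_option linter.all false
set_option backward.isDefEq.respectTransparency false

universe u

open CategoryTheory CategoryTheory.Limits AlgebraicGeometry TopologicalSpace Opposite
open GrothLib.InvExt (mres)
open GrothLib.Ample (Cocycle res app_mres)
open GrothLib.QCoh (stalkLin)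
open GrothLib.CurveMult (T T_app T_app_bijective mulFun seq)

noncomputable section

namespace GrothLib.NormGen9

variable {X : Scheme.{u}} {c : Cocycle X} {u : c.sect 1 ⊤}

theorem res_mul_cancel [Mono (c.hom u)] (i : c.ι) {V : X.Opens} (hV : V ≤ ⊤ ⊓ c.D i) {r : Γ(X, V)}
    (h : r * res hV (u.1 i) = 0) : r = 0 := by
  have hinj := Cohom.app_injective_of_mono (c.hom u) V
  refine hinj (Eq.trans ?_ (map_zero _).symm)
  refine (c.hom_app_apply u V r).trans (c.sect_ext_of_le (hV.trans inf_le_right) ?_)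
  simp only [Cocycle.smul_apply, Cocycle.sectRes_apply]
  show _ = (0 : Γ(X, V ⊓ c.D i))
  have e := congrArg (res (inf_le_left : V ⊓ c.D i ≤ V)) h
  rw [map_mul, Ample.res_res, map_zero] at e
  exact e

theorem mono_T [Mono (c.hom u)] (n : ℕ) : Mono (T c u n) := by
  refine QCoh.mono_of_app_injective _ fun V => ?_
  intro (b : c.sect n V) (b' : c.sect n V) e
  refine c.sect_ext fun i => sub_eq_zero.1 (res_mul_cancel (c := c) (u := u) i (inf_le_inf_right _ le_top) ?_)
  rw [sub_mul, sub_eq_zero]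
  exact congrArg (fun t : c.sect (n + 1) V => t.1 i) e

theorem germ_regular [Mono (c.hom u)] {i : c.ι} {y : X} (hy : y ∈ (⊤ : X.Opens) ⊓ c.D i)
    {z : X.presheaf.stalk y} (hz : z * X.presheaf.germ _ y hy (u.1 i) = 0) : z = 0 := by
  obtain ⟨W, hW, r, rfl⟩ := TopCat.Presheaf.exists_germ_eq X.presheaf z
  let W' := W ⊓ ((⊤ : X.Opens) ⊓ c.D i)
  have e1 : X.presheaf.germ W y hW r = X.presheaf.germ W' y ⟨hW, hy⟩ (res (inf_le_left : W' ≤ W) r) :=
    (TopCat.Presheaf.germ_res_apply X.presheaf _ _ _ r).symm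
  have e2 : X.presheaf.germ _ y hy (u.1 i) = X.presheaf.germ W' y ⟨hW, hy⟩ (res inf_le_right (u.1 i)) :=
    (TopCat.Presheaf.germ_res_apply X.presheaf _ _ _ (u.1 i)).symm
  rw [e1, e2, ← map_mul, ← map_zero (X.presheaf.germ W' y ⟨hW, hy⟩).hom] at hz
  obtain ⟨V, hyV, i₁, i₂, hV⟩ := TopCat.Presheaf.germ_eq X.presheaf y (U := W') (V := W') ⟨hW, hy⟩ ⟨hW, hy⟩ _ _ hz
  have h0 : res (i₁.le.trans inf_le_left) r * res (i₁.le.trans inf_le_right) (u.1 i) = 0 := by
    have := hV
    rw [map_zero] at this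
    rw [← this]
    show _ = res i₁.le _
    rw [map_mul, Ample.res_res, Ample.res_res]
  rw [← TopCat.Presheaf.germ_res_apply X.presheaf (homOfLE (i₁.le.trans inf_le_left)) y hyV r,
    show X.presheaf.map (homOfLE (i₁.le.trans inf_le_left)).op r = 0 from res_mul_cancel (c := c) (u := u) i _ h0,
    map_zero]

/-- Outside the locus of a regular section there are only closed points. -/
theorem isClosed_of_notMem [IsLocallyNoetherian X] [Mono (c.hom u)] (hd : topologicalKrullDim X ≤ 1) {y : X}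
    (hy : y ∉ c.locus u) : IsClosed ({y} : Set X) := by
  obtain ⟨i, hi⟩ := c.exists_mem y
  have hyi : y ∈ (⊤ : X.Opens) ⊓ c.D i := ⟨trivial, hi⟩
  let a := X.presheaf.germ _ y hyi (u.1 i)
  have hna : ¬ IsUnit a := fun h => hy ((c.mem_locus_iff u hi).2 ((Scheme.mem_basicOpen X _ y hyi).2 h))
  obtain ⟨η, hη, hne⟩ : ∃ η : X, η ⤳ y ∧ η ≠ y := by
    by_contra! hmax
    have h0 := CMMor6.ringKrullDim_stalk_le_zero y hmax
    haveI : Ring.KrullDimLE 0 (X.presheaf.stalk y) := (Ring.krullDimLE_iff).2 (by exact_mod_cast h0)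
    haveI : IsArtinianRing (X.presheaf.stalk y) := IsNoetherianRing.isArtinianRing_of_krullDimLE_zero
    refine hna (IsArtinianRing.isUnit_of_mem_nonZeroDivisors ?_)
    exact mem_nonZeroDivisors_iff_right.2 fun z hz => germ_regular hyi hz
  by_contra hc
  obtain ⟨z, hz, hzy⟩ : ∃ z, y ⤳ z ∧ z ≠ y := by
    by_contra! h
    refine hc (closure_eq_iff_isClosed.1 (Set.Subset.antisymm (fun z hz => ?_) subset_closure))
    exact h z (specializes_iff_mem_closure.2 hz)
  let cl : X → TopologicalSpace.IrreducibleCloseds X := fun a =>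
    ⟨closure {a}, isIrreducible_singleton.closure, isClosed_closure⟩
  have hlt : ∀ {a b : X}, a ⤳ b → a ≠ b → cl b < cl a := fun {a b} h hne => by
    refine lt_of_le_not_ge h.closure_subset fun h' => hne ?_
    exact h.antisymm (specializes_iff_mem_closure.2 (h' (subset_closure (Set.mem_singleton a)))) |>.eq
  let s : LTSeries (TopologicalSpace.IrreducibleCloseds X) :=
    ((RelSeries.singleton _ (cl z)).snoc (cl y) (hlt hz (Ne.symm hzy))).snoc (cl η) (by
      rw [RelSeries.last_snoc]; exact hlt hη hne)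
  have h2 : ((2 : ℕ) : WithBot ℕ∞) ≤ topologicalKrullDim X := Order.LTSeries.length_le_krullDim s
  exact absurd (h2.trans hd) (by decide)

variable (k : Type u) [Field k] [X.Over (Spec (CommRingCat.of k))] [IsProper (X ↘ Spec (CommRingCat.of k))]

include k in
theorem coker_data [Mono (c.hom u)] (hd : topologicalKrullDim X ≤ 1) (n : ℕ) :
    (CohB1.support (cokernel (T c u n))).Finite ∧
      ∀ x ∈ CohB1.support (cokernel (T c u n)), IsClosed ({x} : Set X) := by
  haveI := GrothLib.Euler.isNoetherian_of_proper (X := X) k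
  have hQ := QCoh.isCoh_cokernel (T c u n) (Euler.isCoh_of_isInvertible (c.isInvertible_twist n))
    (Euler.isCoh_of_isInvertible (c.isInvertible_twist (n + 1)))
  have hsub : ∀ x ∈ CohB1.support (cokernel (T c u n)), IsClosed ({x} : Set X) := fun x hx =>
    isClosed_of_notMem (c := c) (u := u) hd fun hxl => QCoh.notMem_support_cokernel_of_surjective (T c u n)
      (Euler.stalkLin_bijective_of_app_bijective _ hxl fun W hW => T_app_bijective c u n hW).2 hx
  exact ⟨Euler.finite_of_closed_points (QCoh.isClosed_support_of_isCoh hQ) hsub, hsub⟩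

theorem seq_shortExact [Mono (c.hom u)] (n : ℕ) : (seq c u n).ShortExact :=
  { exact := ShortComplex.exact_of_g_is_cokernel _ (cokernelIsCokernel (T c u n))
    mono_f := mono_T n }

include k in
theorem subsingleton_H1 [Mono (c.hom u)] (hd : topologicalKrullDim X ≤ 1)
    (h1 : Subsingleton (Coh.HH X (c.twist 1) 1)) {n : ℕ} (hn : 1 ≤ n) :
    Subsingleton (Coh.HH X (c.twist n) 1) := by
  induction n, hn using Nat.le_induction with
  | base => exact h1
  | succ n _ ih =>
    obtain ⟨hfin, hcl⟩ := coker_data k (c := c) (u := u) hd n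
    refine subsingleton_of_forall_eq 0 fun y => ?_
    obtain ⟨x, hx⟩ := (Cohom.exact₂ (A := k) (seq_shortExact (c := c) (u := u) n) 1 y).1
      (@Subsingleton.elim _ (Euler.subsingleton_HH_of_finite_support _ hfin hcl 1 le_rfl) _ _)
    rw [← hx, @Subsingleton.elim _ ih x 0]
    exact map_zero _

include k in
/-- Powers with vanishing previous cohomology are globally generated. -/
theorem isGloballyGenerated_twist [Mono (c.hom u)] (hd : topologicalKrullDim X ≤ 1) (n : ℕ)
    (hn : Subsingleton (Coh.HH X (c.twist n) 1)) : Curv2.IsGloballyGenerated (c.twist (n + 1)) := by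
  refine Cocycle.isGloballyGenerated_of_generated c fun x => ?_
  by_cases hxu : x ∈ c.locus u
  · exact ⟨c.sectCast (one_mul _) (c.sectPow u (n + 1)), (c.locus_sectPow u n.succ_pos).ge hxu⟩
  obtain ⟨hfin, hcl⟩ := coker_data k (c := c) (u := u) hd n
  let Q := cokernel (T c u n)
  let π : c.twist (n + 1) ⟶ Q := cokernel.π _
  obtain ⟨i, hi⟩ := c.exists_mem x
  obtain ⟨q, hq⟩ := (AddCommGrpCat.epi_iff_surjective _).1
    ((Euler.isFlasque_of_finite_support Q hfin hcl).epi (homOfLE (le_top : c.D i ≤ ⊤)).op)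
    (π.app (c.D i) (c.base (n + 1) i le_rfl))
  obtain ⟨z, hz⟩ := (Cohom.exact₃ (A := k) (seq_shortExact (c := c) (u := u) n) 0 ((ProjCoh.H0top Q).symm q)).1
    (@Subsingleton.elim _ hn _ _)
  let v : c.sect (n + 1) ⊤ := ProjCoh.H0top (c.twist (n + 1)) z
  have hv : π.app ⊤ v = q := by
    have h := congrArg (ProjCoh.H0top Q) hz
    rw [AddEquiv.apply_symm_apply] at h
    exact ((ProjCoh.H0top_map _ z).symm.trans h : _)
  refine ⟨v, ?_⟩
  let V := c.D i
  let d : Γ(c.twist (n + 1), V) := mres (c.twist (n + 1)) (le_top : V ≤ ⊤) v -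
    (show Γ(c.twist (n + 1), V) from c.base (n + 1) i le_rfl)
  have hd0 : π.app V d = 0 := by
    rw [map_sub, app_mres, hv, sub_eq_zero]
    exact hq
  obtain ⟨(r : c.sect n V), hr⟩ :=
    Cohom.sections_exact (QCoh.toAbFun_map_shortExact _ (seq_shortExact (c := c) (u := u) n)) V d hd0
  have hr' : mulFun c u r = c.sectRes (le_top : V ≤ ⊤) v - c.base (n + 1) i le_rfl := hr
  have h3 := congrArg (fun t : c.sect (n + 1) V => t.1 i) hr'
  simp only [mulFun, AddSubgroup.coe_sub, Pi.sub_apply, Cocycle.base_self, Cocycle.sectRes_apply] at h3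
  have hx1 : x ∈ (V ⊓ c.D i : X.Opens) := ⟨hi, hi⟩
  by_contra hxv
  have hm : ∀ w : Γ(X, ⊤ ⊓ c.D i), x ∉ X.basicOpen w →
      X.presheaf.germ _ x hx1 (res (inf_le_inf_right (c.D i) (le_top : V ≤ ⊤)) w) ∈
        IsLocalRing.maximalIdeal (X.presheaf.stalk x) := fun w hw => by
    rw [IsLocalRing.mem_maximalIdeal, mem_nonunits_iff, ← Scheme.mem_basicOpen X _ x hx1, GrothLib.Ample.res,
      Scheme.basicOpen_res]
    exact fun h => hw h.2
  have e1 : res (inf_le_inf_right (c.D i) (le_top : V ≤ ⊤)) (v.1 i) -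
      r.1 i * res (inf_le_inf_right (c.D i) (le_top : V ≤ ⊤)) (u.1 i) = 1 := by
    rw [h3]; ring
  suffices h1 : (1 : X.presheaf.stalk x) ∈ IsLocalRing.maximalIdeal (X.presheaf.stalk x) from
    (IsLocalRing.maximalIdeal.isMaximal _).ne_top ((Ideal.eq_top_iff_one _).2 h1)
  rw [← map_one (X.presheaf.germ _ x hx1).hom, ← e1, map_sub, map_mul]
  exact sub_mem (hm _ fun h => hxv ((c.mem_locus_iff v hi).2 h))
    (Ideal.mul_mem_left _ _ (hm _ fun h => hxu ((c.mem_locus_iff u hi).2 h)))

end GrothLib.NormGen9
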