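import Groth.Agent.Lib.NormGen9.Basic
import Groth.Agent.Lib.NormGen9.Regular
import Groth.Agent.Lib.CurveMult.SectionRing
import Groth.Agent.Lib.DecSh20.Embed
import Groth.Agent.Lib.PerfLim10.Main

/-!
# Very ample powers on curves
-/

set_option autoImplicit false
set_option linter.all false
set_option backward.isDefEq.respectTransparency false

universe u

open CategoryTheory CategoryTheory.Limits AlgebraicGeometry TopologicalSpace Opposite
open GrothLib.Ample

noncomputable section

namespace GrothLib.NormGen9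

variable {X : Scheme.{u}}

/-- The span of products is their additive closure. -/
theorem closure_eq_top (M N : X.Modules)
    (h : Submodule.span (X.ringCatSheaf.obj.obj (Opposite.op ⊤))
      (Set.range (fun p : M.val.obj (op ⊤) × N.val.obj (op ⊤) => SecTwist.tmul M N ⊤ p.1 p.2)) = ⊤) :
    AddSubgroup.closure {t | ∃ (m : M.val.obj (op ⊤)) (s : N.val.obj (op ⊤)), t = SecTwist.tmul M N ⊤ m s} = ⊤ := by
  refine eq_top_iff.2 fun z hz0 => ?_
  clear hz0
  have hz : z ∈ Submodule.span (X.ringCatSheaf.obj.obj (Opposite.op ⊤))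
      (Set.range (fun p : M.val.obj (op ⊤) × N.val.obj (op ⊤) => SecTwist.tmul M N ⊤ p.1 p.2)) := by
    rw [h]; trivial
  induction hz using Submodule.span_induction with
  | mem x hx => obtain ⟨p, rfl⟩ := hx; exact AddSubgroup.subset_closure ⟨_, _, rfl⟩
  | zero => exact zero_mem _
  | add a b _ _ ha hb => exact add_mem ha hb
  | smul r a hmem ha =>
    clear hmem
    induction ha using AddSubgroup.closure_induction with
    | mem x hx =>
      obtain ⟨m, s, rfl⟩ := hx
      refine AddSubgroup.subset_closure ⟨r • m, s, ?_⟩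
      exact (VA.tm_smul_left (V := ⊤) (show Γ(X, ⊤) from r) m s).symm
    | zero => rw [smul_zero]; exact zero_mem _
    | add a b _ _ ha hb => rw [smul_add]; exact add_mem ha hb
    | neg a _ ha => rw [smul_neg]; exact neg_mem ha

theorem sectCast_rfl (c : Cocycle X) {n : ℕ} {V : X.Opens} (e : n = n) (a : c.sect n V) : c.sectCast e a = a :=
  c.sect_ext fun _ => rfl

/-- Generation in degree one of the square. -/
theorem pow_two_generated (c : Cocycle X)
    (hgen : ∀ n : ℕ, 2 ≤ n → ∀ t : c.sect (n + 1) ⊤,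
      t ∈ AddSubgroup.closure {t | ∃ (a : c.sect n ⊤) (b : c.sect 1 ⊤), t = c.mul a b})
    (n : ℕ) (t : (c.pow 2).sect (n + 1) ⊤) :
    t ∈ AddSubgroup.closure {t | ∃ (a : (c.pow 2).sect n ⊤) (b : (c.pow 2).sect 1 ⊤), t = (c.pow 2).mul a b} := by
  rcases Nat.eq_zero_or_pos n with rfl | hn
  · refine AddSubgroup.subset_closure ⟨(c.pow 2).one, (c.pow 2).sectCast (zero_add 1) t, (c.pow 2).sect_ext fun i => ?_⟩
    rw [Cocycle.mul_apply]
    show _ = 1 * _
    rw [one_mul]
    rfl
  obtain ⟨p, hp2, hpn⟩ : ∃ p, 2 ≤ p ∧ p = 2 * n := ⟨2 * n, by omega, rfl⟩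
  let G := AddSubgroup.closure {t | ∃ (a : (c.pow 2).sect n ⊤) (b : (c.pow 2).sect 1 ⊤), t = (c.pow 2).mul a b}
  let ψ : c.sect (p + 1 + 1) ⊤ → (c.pow 2).sect (n + 1) ⊤ := fun a =>
    c.toPow 2 (c.sectCast (by omega) a)
  have hψ0 : ψ 0 = 0 := (c.pow 2).sect_ext fun _ => rfl
  have hψadd : ∀ a b, ψ (a + b) = ψ a + ψ b := fun a b => (c.pow 2).sect_ext fun _ => rfl
  have hψneg : ∀ a, ψ (-a) = -ψ a := fun a => (c.pow 2).sect_ext fun _ => rfl
  have key : ∀ a : c.sect (p + 1 + 1) ⊤, ψ a ∈ G := by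
    intro a
    induction hgen (p + 1) (by omega) a using AddSubgroup.closure_induction with
    | mem y hy =>
      obtain ⟨a', b, rfl⟩ := hy
      induction hgen p hp2 a' using AddSubgroup.closure_induction with
      | mem w hw =>
        obtain ⟨a'', b', rfl⟩ := hw
        refine AddSubgroup.subset_closure ⟨c.toPow 2 (c.sectCast hpn a''),
          c.toPow 2 (c.sectCast (by omega) (c.mul b' b)), (c.pow 2).sect_ext fun i => ?_⟩
        show a''.1 i * b'.1 i * b.1 i = a''.1 i * (b'.1 i * b.1 i)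
        rw [mul_assoc]
      | zero =>
        rw [show c.mul (0 : c.sect (p + 1) ⊤) b = 0 from c.sect_ext fun i => zero_mul _, hψ0]
        exact zero_mem _
      | add v w _ _ hv hw =>
        rw [show c.mul (v + w) b = c.mul v b + c.mul w b from c.sect_ext fun i => add_mul _ _ _, hψadd]
        exact add_mem hv hw
      | neg v _ hv =>
        rw [show c.mul (-v) b = -c.mul v b from c.sect_ext fun i => neg_mul _ _, hψneg]
        exact neg_mem hv
    | zero => rw [hψ0]; exact zero_mem _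
    | add v w _ _ hv hw => rw [hψadd]; exact add_mem hv hw
    | neg v _ hv => rw [hψneg]; exact neg_mem hv
  have h := key (c.sectCast (by omega) (c.ofPow 2 t))
  exact h

/-- From `P^n` over `Spec k` to `P^n_k`. -/
theorem exists_closedImmersion_of_pn (k : Type u) [Field k] [X.Over (Spec (CommRingCat.of k))]
    [IsProper (X ↘ Spec (CommRingCat.of k))] {L : X.Modules}
    (h : RelAmple.IsRelVeryAmplePn (X ↘ Spec (CommRingCat.of k)) L) :
    ∃ (n : ℕ) (i : X ⟶ CohB1.ProjSpace n k), IsClosedImmersion i ∧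
      i ≫ CohB1.ProjSpace.toSpec n k = X ↘ Spec (CommRingCat.of k) ∧
      Nonempty ((Scheme.Modules.pullback i).obj (Twist.twistProjSpace n k 1) ≅ L) := by
  obtain ⟨n, j, hj, hjb, ⟨φ⟩⟩ := h
  haveI := hj
  obtain ⟨ω, hω1, hω⟩ := ProjPic26.exists_isPullback_point (n := n) (Spec (CommRingCat.of k))
    (𝟙 (Spec (CommRingCat.of k)))
  haveI : IsIso ω := hω.isIso_fst_of_isIso
  let i : X ⟶ CohB1.ProjSpace n k := j ≫ inv ω
  have hib : i ≫ CohB1.ProjSpace.toSpec n k = X ↘ Spec (CommRingCat.of k) := by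
    have h2 : CohB1.ProjSpace.toSpec n k = ω ≫ CohB1.ProjSpaceOver.toBase n (Spec (CommRingCat.of k)) := by
      rw [hω.w, Category.comp_id]
    rw [h2]
    simp only [i, Category.assoc, IsIso.inv_hom_id_assoc]
    exact hjb
  haveI : IsProper (CohB1.ProjSpace.toSpec n k) := Chow.isProper_toSpec n k
  haveI : IsProper (i ≫ CohB1.ProjSpace.toSpec n k) := by rw [hib]; infer_instance
  haveI : IsProper i := IsProper.of_comp i (CohB1.ProjSpace.toSpec n k)
  haveI : IsImmersion i := inferInstance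
  obtain ⟨ψ⟩ := ProjCohom.nonempty_pullback_twistOver n (Spec (CommRingCat.of k)) 1 hω1
  refine ⟨n, i, Chow.isClosedImmersion_of_isImmersion_of_isProper i, hib, ⟨?_⟩⟩
  exact (φ ≪≫ (Scheme.Modules.pullbackCongr (show i ≫ ω = j by simp [i])).symm.app _ ≪≫
    ((Scheme.Modules.pullbackComp i ω).app _).symm ≪≫ (Scheme.Modules.pullback i).mapIso ψ).symm

variable (k : Type u) [Field k] [X.Over (Spec (CommRingCat.of k))] [IsProper (X ↘ Spec (CommRingCat.of k))]

include k in
/-- The square of a globally generated ample module without first cohomology is very ample. -/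
theorem veryAmple_sq (hd : topologicalKrullDim X ≤ 1) {A : X.Modules} (hA : CohB1.IsAmple A)
    (hgg : Curv2.IsGloballyGenerated A) (h1 : Subsingleton (Coh.HH X A 1)) :
    ∃ (n : ℕ) (i : X ⟶ CohB1.ProjSpace n k), IsClosedImmersion i ∧
      i ≫ CohB1.ProjSpace.toSpec n k = X ↘ Spec (CommRingCat.of k) ∧
      Nonempty ((Scheme.Modules.pullback i).obj (Twist.twistProjSpace n k 1) ≅ CohB1.tensorPow A 2) := by
  have hm : Subsingleton (Coh.HH X (CohB1.tensorPow A 1) 1) :=
    CMReg.subsingleton_of_iso (OX.tensorUnitLeftIso A).symm h1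
  obtain ⟨c, ⟨e⟩⟩ := Ample.exists_cocycle hA.1
  obtain ⟨e₂⟩ := c.nonempty_tensorPow_iso_pow e 2
  refine exists_closedImmersion_of_pn k (isRelVeryAmplePn_of_gen (R := k) _ (c.pow 2) e₂
    ((c.isAmp_pow_iff two_pos).2 ((c.isAmple_iff e).1 hA).2) fun n t => pow_two_generated c ?_ n t)
  exact fun n hn t => sect_generated c e n
    (fun _ => closure_eq_top _ _ (CurveMult.span_tmul_tensorPow k hd hA.1 hgg hm hn)) t

include k in
/-- The sixth power of an ample module with a regular section and no first cohomology is very ample. -/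
theorem veryAmple_six (hd : topologicalKrullDim X ≤ 1) {L : X.Modules} (hL : CohB1.IsAmple L)
    (hs : ∃ s : Coh.structureModule X ⟶ L, Mono s) (h1 : Subsingleton (Coh.HH X L 1)) :
    ∃ (n : ℕ) (i : X ⟶ CohB1.ProjSpace n k), IsClosedImmersion i ∧
      i ≫ CohB1.ProjSpace.toSpec n k = X ↘ Spec (CommRingCat.of k) ∧
      Nonempty ((Scheme.Modules.pullback i).obj (Twist.twistProjSpace n k 1) ≅ CohB1.tensorPow L 6) := by
  obtain ⟨s, hs⟩ := hs
  obtain ⟨c, ⟨e⟩⟩ := Ample.exists_cocycle hL.1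
  obtain ⟨u, hu⟩ := c.exists_hom_eq (s ≫ e.hom)
  haveI : Mono (c.hom u) := by rw [hu]; infer_instance
  have hv : ∀ {n : ℕ}, 1 ≤ n → Subsingleton (Coh.HH X (c.twist n) 1) := fun hn =>
    subsingleton_H1 k (c := c) (u := u) hd (CMReg.subsingleton_of_iso e h1) hn
  obtain ⟨d⟩ := c.nonempty_tensorPow_iso e 3
  have hA : CohB1.IsAmple (CohB1.tensorPow L 3) := (Ample.isAmple_tensorPow_iff hL.1 (k := 3) (by norm_num)).1 hL
  have hgg := Ample.isGloballyGenerated_of_iso d.symm
    (isGloballyGenerated_twist k (c := c) (u := u) hd 2 (hv (by omega)))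
  have h3 := CMReg.subsingleton_of_iso d.symm (hv (n := 3) (by omega))
  obtain ⟨n, i, hi, hib, ⟨ψ⟩⟩ := veryAmple_sq k hd hA hgg h3
  obtain ⟨η⟩ := PerfLim10.nonempty_tensorPow_tensorPow hL.1 3 2
  exact ⟨n, i, hi, hib, ⟨ψ ≪≫ η⟩⟩

end GrothLib.NormGen9
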